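import Mathlib.AlgebraicGeometry.AffineScheme
import Mathlib.AlgebraicGeometry.Stalk
import Mathlib.AlgebraicGeometry.GammaSpecAdjunction
import Mathlib.AlgebraicGeometry.IdealSheaf.Functorial
import Mathlib.AlgebraicGeometry.Morphisms.ClosedImmersion
import Mathlib.AlgebraicGeometry.Morphisms.Separated
import Mathlib.CategoryTheory.Filtered.Final

/-!
# Intersections of closed subschemes and spectra of local rings as limits
-/

set_option autoImplicit false
set_option backward.isDefEq.respectTransparency false
set_option linter.style.haveILetI false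

universe u

open CategoryTheory CategoryTheory.Limits AlgebraicGeometry Opposite TopologicalSpace

noncomputable section

namespace Groth.Agent.LimPoint

variable {X : Scheme.{u}}

section Closed

variable {ι : Type u} [Preorder ι] {J : ι → X.IdealSheafData} (hJ : Monotone J)

/-- the closed subschemes of an increasing family of ideals -/
def closedSys : ιᵒᵖ ⥤ Over X := hJ.functor.op ⋙ Scheme.IdealSheafData.subschemeFunctor X

instance (i : ιᵒᵖ) : IsClosedImmersion ((closedSys hJ).obj i).hom :=
  inferInstanceAs (IsClosedImmersion (J i.unop).subschemeι)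

theorem isClosedImmersion_closedSys_map {i j : ιᵒᵖ} (a : i ⟶ j) : IsClosedImmersion ((closedSys hJ).map a).left :=
  haveI : IsClosedImmersion (((closedSys hJ).map a).left ≫ ((closedSys hJ).obj j).hom) := by
    rw [Over.w]; infer_instance
  IsClosedImmersion.of_comp _ ((closedSys hJ).obj j).hom

/-- the cone of the union of the ideals -/
def closedSysCone : Cone (closedSys hJ) where
  pt := Over.mk (⨆ i, J i).subschemeι
  π :=
  { app := fun i => Over.homMk (IsClosedImmersion.lift ((closedSys hJ).obj i).hom (⨆ i, J i).subschemeι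
      ((Scheme.IdealSheafData.ker_subschemeι (J i.unop)).le.trans
        ((le_iSup J i.unop).trans (Scheme.IdealSheafData.ker_subschemeι _).ge)))
      (IsClosedImmersion.lift_fac _ _ _)
    naturality := fun i j a => by
      ext1
      rw [← cancel_mono ((closedSys hJ).obj j).hom]
      simp only [Functor.const_obj_map, Over.comp_left, Category.assoc, Over.homMk_left]
      rw [Over.w ((closedSys hJ).map a), IsClosedImmersion.lift_fac, IsClosedImmersion.lift_fac]
      exact Category.id_comp _ }

/-- the subscheme of the union of the ideals is the limit -/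
def isLimitClosedSys : IsLimit (closedSysCone hJ) :=
  have hle : ∀ s : Cone (closedSys hJ), (⨆ i, J i).subschemeι.ker ≤ s.pt.hom.ker := fun s => by
    refine (Scheme.IdealSheafData.ker_subschemeι _).le.trans (iSup_le fun i => ?_)
    have h1 : (s.π.app (op i)).left ≫ (J i).subschemeι = s.pt.hom := Over.w (s.π.app (op i))
    calc J i = (J i).subschemeι.ker := (Scheme.IdealSheafData.ker_subschemeι _).symm
      _ ≤ ((s.π.app (op i)).left ≫ (J i).subschemeι).ker := Scheme.Hom.le_ker_comp _ _
      _ = s.pt.hom.ker := by rw [h1]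
  { lift := fun s => Over.homMk (IsClosedImmersion.lift (⨆ i, J i).subschemeι s.pt.hom (hle s))
      (IsClosedImmersion.lift_fac _ _ _)
    fac := fun s i => by
      ext1
      rw [← cancel_mono ((closedSys hJ).obj i).hom]
      simp only [Over.comp_left, Category.assoc]
      rw [Over.w, Over.w (s.π.app i)]
      exact IsClosedImmersion.lift_fac _ _ _
    uniq := fun s m _ => by
      ext1
      rw [← cancel_mono (⨆ i, J i).subschemeι]
      exact (Over.w m).trans (IsClosedImmersion.lift_fac _ _ _).symm }

end Closed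

section Point

variable (x : X)

/-- affine neighbourhoods -/
abbrev AffNbhd : Type u := {V : X.Opens // IsAffineOpen V ∧ x ∈ V}

instance : Nonempty (AffNbhd x) :=
  let ⟨V, hV, hx, _⟩ := exists_isAffineOpen_mem_and_subset (X := X) (x := x) (U := ⊤) trivial
  ⟨⟨V, hV, hx⟩⟩

instance : IsCodirectedOrder (AffNbhd x) :=
  ⟨fun a b => by
    obtain ⟨V, hV, hx, hle⟩ := exists_isAffineOpen_mem_and_subset (X := X) (x := x) (U := a.1 ⊓ b.1) ⟨a.2.2, b.2.2⟩
    exact ⟨⟨V, hV, hx⟩, show V ≤ a.1 from hle.trans inf_le_left, show V ≤ b.1 from hle.trans inf_le_right⟩⟩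

/-- the inclusion into all neighbourhoods -/
def nbhdIncl : AffNbhd x ⥤ OpenNhds x where
  obj V := ⟨V.1, V.2.2⟩
  map {V W} a := homOfLE (show V.1 ≤ W.1 from leOfHom a)

instance : (nbhdIncl x).Initial :=
  Functor.initial_of_exists_of_isCofiltered (nbhdIncl x)
    (fun d => by
      obtain ⟨V, hV, hx, hle⟩ := exists_isAffineOpen_mem_and_subset (X := X) (x := x) (U := d.1) d.2
      exact ⟨⟨V, hV, hx⟩, ⟨homOfLE hle⟩⟩)
    fun {d c} s s' => ⟨c, 𝟙 c, by congr 1; exact Subsingleton.elim _ _⟩

/-- the spectra of the rings of the affine neighbourhoods -/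
def specDiagram : AffNbhd x ⥤ Scheme.{u} :=
  ((nbhdIncl x).op ⋙ (OpenNhds.inclusion x).op ⋙ X.presheaf).rightOp ⋙ Scheme.Spec

/-- the spectrum of the local ring is their limit -/
def isLimitSpecDiagram : IsLimit (Scheme.Spec.mapCone (coneRightOpOfCocone
    ((colimit.cocone ((OpenNhds.inclusion x).op ⋙ X.presheaf)).whisker (nbhdIncl x).op))) :=
  isLimitOfPreserves Scheme.Spec (isLimitConeRightOpOfCocone _
    ((Functor.Final.isColimitWhiskerEquiv (nbhdIncl x).op _).symm (colimit.isColimit _)))

variable {T : Scheme.{u}} (a : X ⟶ T)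

/-- the affine neighbourhoods over a base -/
def overDiagram : AffNbhd x ⥤ Over T where
  obj V := Over.mk (V.2.1.fromSpec ≫ a)
  map {V W} h := Over.homMk (Spec.map (X.presheaf.map (homOfLE (leOfHom h : V.1 ≤ W.1)).op) :
      Spec Γ(X, V.1) ⟶ Spec Γ(X, W.1)) (by
    change Spec.map (X.presheaf.map (homOfLE (leOfHom h : V.1 ≤ W.1)).op) ≫ W.2.1.fromSpec ≫ a = V.2.1.fromSpec ≫ a
    rw [← Category.assoc, W.2.1.map_fromSpec V.2.1])
  map_id V := by ext1; exact (specDiagram x).map_id V
  map_comp f g := by ext1; exact (specDiagram x).map_comp f g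

theorem germ_fromSpec (V : AffNbhd x) :
    Spec.map (X.presheaf.germ V.1 x V.2.2) ≫ V.2.1.fromSpec = X.fromSpecStalk x :=
  V.2.1.fromSpecStalk_eq_fromSpecStalk V.2.2

/-- the cone of the local ring -/
def overCone : Cone (overDiagram x a) where
  pt := Over.mk (X.fromSpecStalk x ≫ a)
  π :=
  { app := fun V => Over.homMk (Spec.map (X.presheaf.germ V.1 x V.2.2)) (by
      change Spec.map (X.presheaf.germ V.1 x V.2.2) ≫ V.2.1.fromSpec ≫ a = X.fromSpecStalk x ≫ a
      rw [← Category.assoc, germ_fromSpec])
    naturality := fun V W h => by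
      ext1
      change 𝟙 _ ≫ Spec.map (X.presheaf.germ W.1 x W.2.2) =
        Spec.map (X.presheaf.germ V.1 x V.2.2) ≫ Spec.map (X.presheaf.map (homOfLE (leOfHom h : V.1 ≤ W.1)).op)
      rw [Category.id_comp, ← Spec.map_comp, X.presheaf.germ_res] }

/-- the underlying cone of a cone over the affine neighbourhoods -/
def underCone (s : Cone (overDiagram x a)) : Cone (specDiagram x) where
  pt := s.pt.left
  π :=
  { app := fun V => (s.π.app V).left
    naturality := fun _ _ h => congrArg CommaMorphism.left (s.π.naturality h) }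

/-- it is a limit -/
def isLimitOverCone : IsLimit (overCone x a) where
  lift s := Over.homMk ((isLimitSpecDiagram x).lift (underCone x a s) : s.pt.left ⟶ Spec (X.presheaf.stalk x)) (by
    obtain ⟨V⟩ : Nonempty (AffNbhd x) := inferInstance
    have h1 : ((isLimitSpecDiagram x).lift (underCone x a s) : s.pt.left ⟶ Spec (X.presheaf.stalk x)) ≫
        Spec.map (X.presheaf.germ V.1 x V.2.2) = (s.π.app V).left := (isLimitSpecDiagram x).fac (underCone x a s) V
    have h2 : (s.π.app V).left ≫ V.2.1.fromSpec ≫ a = s.pt.hom := Over.w (s.π.app V)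
    change _ ≫ X.fromSpecStalk x ≫ a = s.pt.hom
    rw [← germ_fromSpec x V, Category.assoc, ← Category.assoc, h1, h2])
  fac s V := Over.OverMorphism.ext ((isLimitSpecDiagram x).fac (underCone x a s) V)
  uniq s m hm := Over.OverMorphism.ext ((isLimitSpecDiagram x).uniq (underCone x a s) m.left
    fun V => congrArg CommaMorphism.left (hm V))

end Point

end Groth.Agent.LimPoint
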